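import Mathlib
import Groth.Prelude.Def_CAlgX
import Groth.Agent.Lib.SeqKinds.Basic

/-!
# Appending an `H₁`-regular sequence to a quasi-regular one
-/

set_option autoImplicit false
universe u

open scoped TensorProduct
open MvPolynomial

namespace GrothLib.QRegAppend

variable {A : Type u} [CommRing A]

/-- A homogeneous form in an `H₁`-regular (mod `J`) sequence lying in `J` lies in `J * (g)^N`. -/
theorem eval_mem_mul_pow_aux {B : Type u} [CommRing B] (q : A →+* B) (hq : Function.Surjective q)
    {m : ℕ} (g : Fin m → A) (hg : CAlgX.IsH1Regular (fun j => q (g j))) (N : ℕ) (P : MvPolynomial (Fin m) A)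
    (hP : P.IsHomogeneous N) (h : q (eval g P) = 0) : eval g P ∈ RingHom.ker q * Ideal.span (Set.range g) ^ N := by
  classical
  let gb : Fin m → B := fun j => q (g j)
  letI iB : Algebra (MvPolynomial (Fin m) ℤ) B := (aeval (R := ℤ) gb).toRingHom.toAlgebra
  have hinj := GrothLib.SeqKinds.injective_lTensor_pow (GrothLib.SeqKinds.injective_lTensor_vars gb hg) N
  set V : Ideal (MvPolynomial (Fin m) ℤ) := idealOfVars (Fin m) ℤ ^ N
  set G := Ideal.span (Set.range g)
  set φ : MvPolynomial (Fin m) ℤ →+* A := (aeval (R := ℤ) g).toRingHom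
  have hqφ : ∀ r, q (φ r) = aeval (R := ℤ) gb r := by
    have : (q.comp φ) = (aeval (R := ℤ) gb).toRingHom := by
      refine MvPolynomial.ringHom_ext (fun r => by simp [φ]) (fun i => by simp [φ, gb])
    exact fun r => RingHom.congr_fun this r
  have hφV : ∀ p ∈ V, φ p ∈ G ^ N := by
    intro p hp
    have h1 : (idealOfVars (Fin m) ℤ).map φ ≤ G := by
      rw [idealOfVars, Ideal.map_span, Ideal.span_le]
      rintro _ ⟨_, ⟨i, rfl⟩, rfl⟩
      exact Ideal.subset_span ⟨i, by simp [φ]⟩
    have := Ideal.mem_map_of_mem φ hp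
    rw [Ideal.map_pow] at this
    exact Ideal.pow_right_mono h1 N this
  let W := A ⧸ (RingHom.ker q * G ^ N)
  let w := Ideal.Quotient.mk (RingHom.ker q * G ^ N)
  let rep := Function.surjInv hq
  have hrep : ∀ b, q (rep b) = b := Function.surjInv_eq hq
  have hwd : ∀ a a' : A, q a = q a' → ∀ y ∈ G ^ N, w (a * y) = w (a' * y) := fun a a' he y hy => by
    refine Ideal.Quotient.eq.2 ?_
    rw [← sub_mul]
    exact Ideal.mul_mem_mul (by rw [RingHom.mem_ker, map_sub, he, sub_self]) hy
  let F : B →+ (V →+ W) := AddMonoidHom.mk'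
    (fun b => AddMonoidHom.mk' (fun p => w (rep b * φ p.1)) fun p p' => by
      rw [← map_add, ← mul_add, Submodule.coe_add, map_add])
    (fun b b' => AddMonoidHom.ext fun p => by
      show w (rep (b + b') * φ p.1) = w (rep b * φ p.1) + w (rep b' * φ p.1)
      rw [← map_add, ← add_mul]
      exact hwd _ _ (by rw [map_add, hrep, hrep, hrep]) _ (hφV _ p.2))
  have hF : ∀ (r : MvPolynomial (Fin m) ℤ) b (p : V), F (r • b) p = F b (r • p) := by
    intro r b p
    show w (rep (r • b) * φ p.1) = w (rep b * φ (r * p.1))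
    rw [show φ (r * p.1) = φ r * φ p.1 from map_mul _ _ _, ← mul_assoc]
    refine hwd _ _ ?_ _ (hφV _ p.2)
    rw [map_mul, hrep, hrep, hqφ, Algebra.smul_def, mul_comm]
    rfl
  let Φ : B ⊗[MvPolynomial (Fin m) ℤ] V →+ W := TensorProduct.liftAddHom F hF
  have hdeg : ∀ α ∈ P.support, α.degree = N := fun α hα => by
    have := hP (mem_support_iff.mp hα)
    rw [Finsupp.degree_eq_weight_one]; exact this
  let t : B ⊗[MvPolynomial (Fin m) ℤ] V :=
    ∑ α ∈ P.support.attach, q (coeff α.1 P) ⊗ₜ ⟨monomial α.1 1,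
      (monomial_mem_pow_idealOfVars_iff N α.1 one_ne_zero).mpr (hdeg α.1 α.2).ge⟩
  have hφm : ∀ α : Fin m →₀ ℕ, φ (monomial α 1) = α.prod fun i e => g i ^ e := fun α => by
    simp [φ, aeval_monomial]
  have ht : t = 0 := by
    refine hinj ((TensorProduct.rid (MvPolynomial (Fin m) ℤ) B).injective ?_)
    rw [map_zero, map_zero, map_sum, map_sum, ← h, eval_eq,
      ← Finset.sum_attach P.support, map_sum]
    refine Finset.sum_congr rfl fun α _ => ?_
    rw [LinearMap.lTensor_tmul, TensorProduct.rid_tmul, Algebra.smul_def, mul_comm, map_mul]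
    congr 1
    show aeval (R := ℤ) gb (monomial α.1 1) = _
    rw [← hqφ, hφm, Finsupp.prod]
  have h0 : Φ t = 0 := by rw [ht, map_zero]
  rw [map_sum] at h0
  rw [← Ideal.Quotient.eq_zero_iff_mem]
  show w (eval g P) = 0
  rw [← h0, eval_eq, ← Finset.sum_attach P.support, map_sum]
  refine Finset.sum_congr rfl fun α _ => ?_
  show w _ = w (rep (q (coeff α.1 P)) * φ (monomial α.1 1))
  rw [hφm, ← Finsupp.prod]
  refine (hwd _ _ (hrep _) _ ?_).symm
  rw [← hφm]
  exact hφV _ ((monomial_mem_pow_idealOfVars_iff N α.1 one_ne_zero).mpr (hdeg α.1 α.2).ge)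

theorem eval_mem_mul_pow (J : Ideal A) {m : ℕ} (g : Fin m → A)
    (hg : CAlgX.IsH1Regular (fun j => Ideal.Quotient.mk J (g j))) (N : ℕ) (P : MvPolynomial (Fin m) A)
    (hP : P.IsHomogeneous N) (h : eval g P ∈ J) : eval g P ∈ J * Ideal.span (Set.range g) ^ N := by
  have := eval_mem_mul_pow_aux (Ideal.Quotient.mk J) Ideal.Quotient.mk_surjective g hg N P hP
    (Ideal.Quotient.eq_zero_iff_mem.2 h)
  rwa [Ideal.mk_ker] at this

variable {n m : ℕ} (f : Fin n → A) (g : Fin m → A)

theorem inf_pow_le_mul (hg : CAlgX.IsH1Regular (fun j => Ideal.Quotient.mk (Ideal.span (Set.range f)) (g j)))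
    (M : ℕ) :
    Ideal.span (Set.range f) ⊓ (Ideal.span (Set.range f) ⊔ Ideal.span (Set.range g)) ^ (M + 1) ≤
      Ideal.span (Set.range f) * (Ideal.span (Set.range f) ⊔ Ideal.span (Set.range g)) ^ M := by
  classical
  set J := Ideal.span (Set.range f)
  set G := Ideal.span (Set.range g)
  set I := J ⊔ G with hI
  have hdec : ∀ M, I ^ (M + 1) ≤ J * I ^ M ⊔ G ^ (M + 1) := by
    intro M
    induction M with
    | zero => simp [hI]
    | succ M ih =>
      rw [pow_succ I (M + 1)]
      refine (Ideal.mul_mono_left ih).trans ?_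
      rw [Ideal.sup_mul, mul_assoc, ← pow_succ]
      refine sup_le le_sup_left ?_
      rw [hI, Ideal.mul_sup]
      refine sup_le (le_sup_of_le_left ?_) (le_sup_of_le_right (pow_succ G (M + 1)).ge)
      rw [mul_comm]
      exact Ideal.mul_mono le_rfl (Ideal.pow_right_mono le_sup_right _)
  rintro x ⟨hxJ, hxI⟩
  obtain ⟨y, hy, z, hz, rfl⟩ := Submodule.mem_sup.1 (hdec M hxI)
  have hzJ : z ∈ J := by
    have := sub_mem hxJ (Ideal.mul_le_inf hy).1
    simpa using this
  rw [← one_mul (G ^ (M + 1)), Ideal.one_eq_top] at hz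
  obtain ⟨Q, hQ, -, rfl⟩ := GrothLib.SeqKinds.exists_homogeneous_eval g ⊤ (M + 1) hz
  refine add_mem hy ?_
  have := eval_mem_mul_pow J g hg (M + 1) Q hQ hzJ
  exact Ideal.mul_mono le_rfl ((Ideal.pow_right_mono le_sup_right _).trans (Ideal.pow_le_pow_right M.le_succ)) this

theorem pow_inf_pow_le (hf : CAlgX.IsQuasiRegular f)
    (hg : CAlgX.IsH1Regular (fun j => Ideal.Quotient.mk (Ideal.span (Set.range f)) (g j))) :
    ∀ d N : ℕ, Ideal.span (Set.range f) ^ d ⊓ (Ideal.span (Set.range f) ⊔ Ideal.span (Set.range g)) ^ N ≤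
      Ideal.span (Set.range f) ^ d * (Ideal.span (Set.range f) ⊔ Ideal.span (Set.range g)) ^ (N - d) := by
  intro d
  induction d with
  | zero => intro N; simp
  | succ d ih =>
    intro N x hx
    rcases Nat.lt_or_ge d N with hN | hN
    · obtain ⟨M, rfl⟩ := Nat.exists_eq_add_of_lt hN
      have h1 := ih _ ⟨Ideal.pow_le_pow_right d.le_succ hx.1, hx.2⟩
      rw [show d + M + 1 - d = M + 1 by omega, mul_comm] at h1
      rw [show d + M + 1 - (d + 1) = M by omega]
      obtain ⟨Q, hQ, hQK, rfl⟩ := GrothLib.SeqKinds.exists_homogeneous_eval f _ d h1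
      have hQJ := hf d Q hQ hx.1
      rw [eval_eq']
      refine Ideal.sum_mem _ fun α hα => ?_
      have hc := inf_pow_le_mul f g hg M ⟨hQJ α, hQK α⟩
      have hmon : ∏ i, f i ^ α i ∈ Ideal.span (Set.range f) ^ d := by
        have hαd : α.degree = d := by
          have := hQ (mem_support_iff.mp hα)
          rw [Finsupp.degree_eq_weight_one]; exact this
        rw [← hαd, Finsupp.degree_eq_sum, ← Finset.prod_pow_eq_pow_sum]
        exact Ideal.prod_mem_prod fun i _ => Ideal.pow_mem_pow (Ideal.subset_span (Set.mem_range_self i)) _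
      rw [pow_succ, mul_assoc, mul_comm (Q.coeff α)]
      exact Ideal.mul_mem_mul hmon hc
    · rw [Nat.sub_eq_zero_of_le (by omega), pow_zero, Ideal.one_eq_top, Ideal.mul_top]
      exact hx.1

theorem prod_append (d : Fin (n + m) →₀ ℕ) :
    ∏ k, Fin.append f g k ^ d k =
      (∏ i, f i ^ d (Fin.castAdd m i)) * ∏ j, g j ^ d (Fin.natAdd n j) := by
  simp [Fin.prod_univ_add]

theorem isQuasiRegular_append (hf : CAlgX.IsQuasiRegular f)
    (hg : CAlgX.IsH1Regular (fun j => Ideal.Quotient.mk (Ideal.span (Set.range f)) (g j))) :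
    CAlgX.IsQuasiRegular (Fin.append f g) := by
  classical
  set J := Ideal.span (Set.range f) with hJdef
  set G := Ideal.span (Set.range g) with hGdef
  have hrange : Ideal.span (Set.range (Fin.append f g)) = J ⊔ G := by
    rw [hJdef, hGdef, ← Ideal.span_union]
    congr 1
    ext x
    constructor
    · rintro ⟨k, rfl⟩
      induction k using Fin.addCases with
      | left i => left; exact ⟨i, by simp⟩
      | right j => right; exact ⟨j, by simp⟩
    · rintro (⟨i, rfl⟩ | ⟨j, rfl⟩)
      · exact ⟨Fin.castAdd m i, by simp⟩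
      · exact ⟨Fin.natAdd n j, by simp⟩
  intro N P hP hPe
  rw [hrange] at hPe ⊢
  set I := J ⊔ G with hIdef
  let ν : (Fin (n + m) →₀ ℕ) → (Fin n →₀ ℕ) := fun d => Finsupp.equivFunOnFinite.symm fun i => d (Fin.castAdd m i)
  let μ : (Fin (n + m) →₀ ℕ) → (Fin m →₀ ℕ) := fun d => Finsupp.equivFunOnFinite.symm fun j => d (Fin.natAdd n j)
  have hνμ : ∀ d ∈ P.support, (ν d).degree + (μ d).degree = N := by
    intro d hd
    have : d.degree = N := by rw [Finsupp.degree_eq_weight_one]; exact hP (mem_support_iff.mp hd)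
    rw [← this]
    simp [ν, μ, Finsupp.degree_eq_sum, Fin.sum_univ_add]
  have hext : ∀ d d', ν d = ν d' → μ d = μ d' → d = d' := by
    intro d d' h1 h2
    ext k
    induction k using Fin.addCases with
    | left i => exact DFunLike.congr_fun h1 i
    | right j => exact DFunLike.congr_fun h2 j
  have hgmem : ∀ β : Fin m →₀ ℕ, ∏ j, g j ^ β j ∈ G ^ β.degree := fun β => by
    rw [Finsupp.degree_eq_sum, ← Finset.prod_pow_eq_pow_sum]
    exact Ideal.prod_mem_prod fun j _ => Ideal.pow_mem_pow (Ideal.subset_span (Set.mem_range_self j)) _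
  have hfmem : ∀ β : Fin n →₀ ℕ, ∏ i, f i ^ β i ∈ J ^ β.degree := fun β => by
    rw [Finsupp.degree_eq_sum, ← Finset.prod_pow_eq_pow_sum]
    exact Ideal.prod_mem_prod fun i _ => Ideal.pow_mem_pow (Ideal.subset_span (Set.mem_range_self i)) _
  let T : (Fin (n + m) →₀ ℕ) → A := fun d =>
    P.coeff d * ((∏ i, f i ^ ν d i) * ∏ j, g j ^ μ d j)
  have hT : ∀ d, T d = P.coeff d * ∏ k, Fin.append f g k ^ d k := fun d => by
    rw [prod_append]; simp [T, ν, μ]
  have main : ∀ e, ∀ d, d ∈ P.support → (ν d).degree = e → P.coeff d ∈ I := by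
    intro e
    induction e using Nat.strong_induction_on with
    | _ e ih =>
      intro d₀ hd₀ he
      have heN : e ≤ N := by have := hνμ d₀ hd₀; omega
      set Q := ∑ d ∈ P.support with e ≤ (ν d).degree, T d with hQdef
      have hQJ : Q ∈ J ^ e := Ideal.sum_mem _ fun d hd => Ideal.mul_mem_left _ _ (Ideal.mul_mem_right _ _
        (Ideal.pow_le_pow_right (Finset.mem_filter.1 hd).2 (hfmem (ν d))))
      have hQI : Q ∈ I ^ (N + 1) := by
        have hlow : ∑ d ∈ P.support with ¬ e ≤ (ν d).degree, T d ∈ I ^ (N + 1) := by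
          refine Ideal.sum_mem _ fun d hd => ?_
          obtain ⟨hd, hde⟩ := Finset.mem_filter.1 hd
          rw [pow_succ']
          refine Ideal.mul_mem_mul (ih _ (not_le.1 hde) d hd rfl) ?_
          rw [← hνμ d hd, pow_add]
          exact Ideal.mul_mem_mul (Ideal.pow_right_mono le_sup_left _ (hfmem _))
            (Ideal.pow_right_mono le_sup_right _ (hgmem _))
        have hall : eval (Fin.append f g) P = ∑ d ∈ P.support, T d := by
          rw [eval_eq']; exact Finset.sum_congr rfl fun d _ => (hT d).symm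
        rw [hall, ← Finset.sum_filter_add_sum_filter_not P.support (fun d => e ≤ (ν d).degree)] at hPe
        simpa using sub_mem hPe hlow
      have hQ' := pow_inf_pow_le f g hf hg e (N + 1) ⟨hQJ, hQI⟩
      rw [mul_comm] at hQ'
      obtain ⟨R, hR, hRK, hRe⟩ := GrothLib.SeqKinds.exists_homogeneous_eval f _ e hQ'
      let U : MvPolynomial (Fin n) A := ∑ d ∈ P.support with (ν d).degree = e,
        monomial (ν d) (P.coeff d * ∏ j, g j ^ μ d j)
      have hU : U.IsHomogeneous e := IsHomogeneous.sum _ _ e fun d hd =>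
        isHomogeneous_monomial _ (Finset.mem_filter.1 hd).2
      have hUe : eval f (U - R) ∈ J ^ (e + 1) := by
        rw [map_sub, hRe, map_sum]
        have : Q = ∑ d ∈ P.support with (ν d).degree = e, T d +
            ∑ d ∈ P.support with e < (ν d).degree, T d := by
          rw [hQdef, ← Finset.sum_filter_add_sum_filter_not (P.support.filter fun d => e ≤ (ν d).degree)
            (fun d => (ν d).degree = e), Finset.filter_filter, Finset.filter_filter]
          congr 1 <;> refine Finset.sum_congr (Finset.filter_congr fun d _ => ?_) fun _ _ => rfl <;> omega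
        rw [this]
        have heq : ∑ d ∈ P.support with (ν d).degree = e, eval f (monomial (ν d) (P.coeff d * ∏ j, g j ^ μ d j)) =
            ∑ d ∈ P.support with (ν d).degree = e, T d := Finset.sum_congr rfl fun d _ => by
          rw [eval_monomial, Finsupp.prod_fintype _ _ (fun _ => pow_zero _)]
          simp only [T]; ring
        rw [heq, sub_add_cancel_left]
        refine neg_mem (Ideal.sum_mem _ fun d hd => Ideal.mul_mem_left _ _ (Ideal.mul_mem_right _ _ ?_))
        exact Ideal.pow_le_pow_right (Finset.mem_filter.1 hd).2 (hfmem (ν d))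
      have hcoef := hf e (U - R) (hU.sub hR) hUe (ν d₀)
      rw [coeff_sub] at hcoef
      set q := Ideal.Quotient.mk J
      have hGmap : ∀ k, (I ^ k).map q = Ideal.span (Set.range fun j => q (g j)) ^ k := by
        intro k
        rw [Ideal.map_pow, hIdef, Ideal.map_sup, Ideal.map_quotient_self, bot_sup_eq, hGdef, Ideal.map_span,
          ← Set.range_comp]
        rfl
      let S : MvPolynomial (Fin m) (A ⧸ J) := ∑ d ∈ P.support with ν d = ν d₀,
        monomial (μ d) (q (P.coeff d))
      have hS : S.IsHomogeneous (N - e) := IsHomogeneous.sum _ _ _ fun d hd => by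
        obtain ⟨hd, hde⟩ := Finset.mem_filter.1 hd
        refine isHomogeneous_monomial _ ?_
        have := hνμ d hd
        rw [hde, he] at this
        omega
      have hUcoef : U.coeff (ν d₀) = ∑ d ∈ P.support with ν d = ν d₀, P.coeff d * ∏ j, g j ^ μ d j := by
        rw [coeff_sum]
        simp only [coeff_monomial]
        rw [← Finset.sum_filter, Finset.filter_filter]
        refine Finset.sum_congr (Finset.filter_congr fun d _ => ?_) fun _ _ => rfl
        exact ⟨fun h => h.2, fun h => ⟨h ▸ he, h⟩⟩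
      have hSe : eval (fun j => q (g j)) S ∈ Ideal.span (Set.range fun j => q (g j)) ^ (N - e + 1) := by
        rw [show N - e + 1 = N + 1 - e by omega, ← hGmap]
        have h1 : eval (fun j => q (g j)) S = q (U.coeff (ν d₀)) := by
          rw [hUcoef, map_sum, map_sum]
          refine Finset.sum_congr rfl fun d _ => ?_
          rw [eval_monomial, Finsupp.prod_fintype _ _ (fun _ => pow_zero _), map_mul, map_prod]
          simp [map_pow]
        have h2 : q (U.coeff (ν d₀)) = q (R.coeff (ν d₀)) := Ideal.Quotient.eq.2 hcoef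
        rw [h1, h2]
        exact Ideal.mem_map_of_mem _ (hRK _)
      have hfin := GrothLib.SeqKinds.isQuasiRegular_of_isH1Regular _ hg (N - e) S hS hSe (μ d₀)
      have hcS : S.coeff (μ d₀) = q (P.coeff d₀) := by
        rw [coeff_sum, Finset.sum_eq_single d₀]
        · rw [coeff_monomial, if_pos rfl]
        · intro d hd hne
          rw [coeff_monomial, if_neg]
          exact fun h => hne (hext _ _ (Finset.mem_filter.1 hd).2 h)
        · intro h
          exact absurd (by simp [hd₀]) h
      rw [hcS, ← pow_one (Ideal.span _), ← hGmap, pow_one] at hfin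
      rwa [← Ideal.mem_quotient_iff_mem le_sup_left]
  intro d
  by_cases hd : d ∈ P.support
  · exact main _ d hd rfl
  · rw [notMem_support_iff.1 hd]; exact zero_mem _

end GrothLib.QRegAppend
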